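import Groth.Agent.S4362
import Groth.Agent.S11994
import Groth.Agent.S7795
import Groth.Agent.S9796
import Groth.Agent.S7815
import Groth.Agent.AVLib.MaxAbel
import Groth.Agent.AVLib.GeomInt
import Groth.Agent.MonoFibre.Connected
import Groth.Agent.MonoFibre.HomFlat
import Groth.Agent.GrpQuotLib.FieldQuot
import Groth.Agent.GrpQuotLib.KerGrp
import Groth.Agent.GrpQuotLib.Descend
import Groth.Agent.ObsLib.IdComp
import Groth.Agent.GenSubLib.Main
import Groth.Agent.GrpSchLib.Dimension

/-!
# The Albanese quotient of a smooth connected group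
-/

set_option autoImplicit false
set_option backward.isDefEq.respectTransparency false
set_option linter.style.haveILetI false
set_option linter.unusedSectionVars false
set_option maxHeartbeats 1000000

universe u

open CategoryTheory CategoryTheory.Limits MonoidalCategory CartesianMonoidalCategory MonObj GrpObj AlgebraicGeometry

noncomputable section

namespace Groth.Agent.AlbQuotLib

variable {k : Type u} [Field k]

theorem isClosedImmersion_unit (A : Over (Spec (CommRingCat.of k))) [GrpObj A] [IsSeparated A.hom] :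
    IsClosedImmersion η[A].left := by
  haveI : IsClosedImmersion (η[A].left ≫ A.hom) := by
    rw [Over.w η[A]]; exact inferInstanceAs (IsClosedImmersion (𝟙 (Spec (CommRingCat.of k))))
  exact IsClosedImmersion.of_comp η[A].left A.hom

theorem tensorHom_left_prop (P : MorphismProperty Scheme.{u}) [P.IsStableUnderBaseChange] [P.IsStableUnderComposition]
    {G Q : Over (Spec (CommRingCat.of k))} (q : G ⟶ Q) (hq : P q.left) : P (q ⊗ₘ q).left := by
  have sq1 : IsPullback (Q ◁ q).left (snd Q G).left (snd Q Q).left q.left := by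
    refine IsPullback.of_right (h₁₂ := (fst Q Q).left) (v₁₃ := Q.hom) (h₂₂ := Q.hom) ?_ ?_
      (IsPullback.of_hasPullback Q.hom Q.hom)
    · rw [← Over.comp_left, whiskerLeft_fst, Over.w q]
      exact IsPullback.of_hasPullback Q.hom G.hom
    · rw [← Over.comp_left, whiskerLeft_snd, Over.comp_left]
  have sq2 : IsPullback (q ▷ G).left (fst G G).left (fst Q G).left q.left := by
    refine IsPullback.of_right (h₁₂ := (snd Q G).left) (v₁₃ := G.hom) (h₂₂ := Q.hom) ?_ ?_
      (IsPullback.of_hasPullback Q.hom G.hom).flip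
    · rw [← Over.comp_left, whiskerRight_snd, Over.w q]
      exact (IsPullback.of_hasPullback G.hom G.hom).flip
    · rw [← Over.comp_left, whiskerRight_fst, Over.comp_left]
  rw [MonoidalCategory.tensorHom_def, Over.comp_left]
  exact P.comp_mem _ _ (MorphismProperty.of_isPullback sq2.flip hq) (MorphismProperty.of_isPullback sq1.flip hq)

/-- The kernel of a homomorphism. -/
theorem exists_kernel {G H : Over (Spec (CommRingCat.of k))} [GrpObj G] [GrpObj H] [IsSeparated H.hom]
    (f : G ⟶ H) [IsMonHom f] :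
    ∃ (K : Over (Spec (CommRingCat.of k))) (_ : GrpObj K) (e : K ⟶ G), IsMonHom e ∧ IsClosedImmersion e.left ∧
      AlgGrp.IsKernel e f ∧ AlgGrp.IsNormalHom e := by
  obtain ⟨hK, he⟩ := GrpQuotLib.exists_grpObj_kernel f
  let K := Limits.pullback f η[H]
  let e : K ⟶ G := Limits.pullback.fst f η[H]
  have hek : AlgGrp.IsKernel e f := by
    have h := IsPullback.of_hasPullback f η[H]
    rw [toUnit_unique (Limits.pullback.snd f η[H]) (toUnit K)] at h
    exact h
  haveI : IsClosedImmersion e.left :=
    MorphismProperty.of_isPullback (GrpQuotLib.isPullback_left hek).flip (isClosedImmersion_unit H)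
  refine ⟨K, hK, e, he, inferInstance, hek, fun T g x => ?_⟩
  have heφ : e ≫ f = 1 := by rw [hek.w, Hom.one_def]
  have hz : (g * (x ≫ e) * g⁻¹) ≫ f = toUnit T ≫ η[H] := by
    rw [MonObj.mul_comp, MonObj.mul_comp, GrpObj.inv_comp, Category.assoc, heφ, MonObj.comp_one, _root_.mul_one,
      mul_inv_cancel, Hom.one_def]
  exact ⟨hek.lift _ _ hz, (hek.lift_fst _ _ _).symm⟩

/-- A group with open unit point has the discrete topology. -/
theorem discreteTopology_of_isOpen_unitPt (M : Over (Spec (CommRingCat.of k))) [GrpObj M] [IsSeparated M.hom]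
    [LocallyOfFiniteType M.hom] [QuasiCompact M.hom] (h : IsOpen ({GrpSchLib.unitPt M} : Set M.left)) :
    DiscreteTopology M.left := by
  haveI : IsLocallyNoetherian M.left := LocallyOfFiniteType.isLocallyNoetherian M.hom
  haveI : CompactSpace M.left := QuasiCompact.compactSpace_of_compactSpace M.hom
  haveI : IsNoetherian M.left := {}
  haveI : M.left.IsSeparated := ⟨by rw [← terminal.comp_from M.hom]; infer_instance⟩
  have hd : topologicalKrullDim M.left ≤ 0 := by
    rw [← GrpSchLib.ringKrullDim_stalk_eq_topologicalKrullDim M _ GrpSchLib.isClosed_unitPt]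
    haveI : Subsingleton (PrimeSpectrum (M.left.presheaf.stalk (GrpSchLib.unitPt M))) := ⟨fun p q => by
      apply (M.left.fromSpecStalk (GrpSchLib.unitPt M)).isEmbedding.injective
      have e : ∀ z, (M.left.fromSpecStalk (GrpSchLib.unitPt M)) z = GrpSchLib.unitPt M := fun z => by
        have hz := (Scheme.range_fromSpecStalk (X := M.left) (x := GrpSchLib.unitPt M)).le ⟨z, rfl⟩
        exact Set.mem_singleton_iff.1 (Specializes.mem_open hz h rfl)
      rw [e, e]⟩
    exact Order.krullDim_nonpos_of_subsingleton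
  obtain ⟨ht, -⟩ := S9796.result M.left hd
  haveI := ht
  haveI : Finite M.left := TopologicalSpace.NoetherianSpace.finite
  infer_instance

variable (G : Over (Spec (CommRingCat.of k))) [GrpObj G] [Smooth G.hom] [QuasiCompact G.hom] [ConnectedSpace G.left]

/-- Kills every homomorphism to a proper group. -/
theorem exists_albanese : ∃ (N : Over (Spec (CommRingCat.of k))) (_ : GrpObj N) (i : N ⟶ G)
    (A : Over (Spec (CommRingCat.of k))) (_ : GrpObj A) (α : G ⟶ A),
      IsMonHom i ∧ IsClosedImmersion i.left ∧ AlgGrp.IsNormalHom i ∧ ConnectedSpace ↥N.left ∧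
      IsProper A.hom ∧ Smooth A.hom ∧ ConnectedSpace ↥A.left ∧ IsMonHom α ∧ Surjective α.left ∧ Flat α.left ∧
      AlgGrp.IsKernel i α ∧
      (∀ (B : Over (Spec (CommRingCat.of k))) [GrpObj B] [IsProper B.hom] (f : G ⟶ B) [IsMonHom f], i ≫ f = 1) := by
  classical
  haveI : GeometricallyConnected G.hom := MonoFibre.geometricallyConnected_of_section G.hom η[G].left (Over.w η[G])
  haveI : GeometricallyIntegral G.hom := AVLib.geometricallyIntegral_of_smooth G
  haveI : IsSeparated G.hom := GrpSchLib.isSeparated_hom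
  haveI : LocallyOfFiniteType G.hom := inferInstance
  haveI : IsLocallyNoetherian G.left := LocallyOfFiniteType.isLocallyNoetherian G.hom
  haveI : CompactSpace G.left := QuasiCompact.compactSpace_of_compactSpace G.hom
  haveI : IsNoetherian G.left := {}
  let S : Set G.left.IdealSheafData := {I | ∃ (B : Over (Spec (CommRingCat.of k))) (_ : GrpObj B) (_ : IsProper B.hom)
    (f : G ⟶ B) (_ : IsMonHom f) (K : Over (Spec (CommRingCat.of k))) (e : K ⟶ G),
      IsClosedImmersion e.left ∧ AlgGrp.IsKernel e f ∧ e.left.ker = I}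
  have hS : S.Nonempty := by
    haveI : IsProper (𝟙_ (Over (Spec (CommRingCat.of k)))).hom :=
      inferInstanceAs (IsProper (𝟙 (Spec (CommRingCat.of k))))
    haveI : IsMonHom (toUnit G) := ⟨toUnit_unique _ _, toUnit_unique _ _⟩
    obtain ⟨K, -, e, -, hec, hek, -⟩ := exists_kernel (toUnit G)
    exact ⟨_, _, inferInstance, inferInstance, toUnit G, inferInstance, K, e, hec, hek, rfl⟩
  haveI : WellFoundedGT G.left.IdealSheafData := S4362.result G.left
  obtain ⟨I, ⟨B, hB, hBp, f, hf, K, e, hec, hek, hI⟩, hmax⟩ := (wellFounded_gt).has_min S hS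
  letI := hB
  haveI := hBp; haveI := hf; haveI := hec
  -- a subgroup cut out by a homomorphism to a proper group contains the minimal one
  have hle : ∀ (B' : Over (Spec (CommRingCat.of k))) [GrpObj B'] [IsProper B'.hom] (f' : G ⟶ B') [IsMonHom f']
      (K' : Over (Spec (CommRingCat.of k))) (e' : K' ⟶ G), IsClosedImmersion e'.left → AlgGrp.IsKernel e' f' →
      (∃ r : K' ⟶ K, r ≫ e = e') → ∃ l : K ⟶ K', l ≫ e' = e := by
    intro B' _ _ f' _ K' e' he' hk' hr
    obtain ⟨r, hr⟩ := hr
    haveI := he'
    have h1 : I ≤ e'.left.ker := by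
      rw [← hI, ← hr, Over.comp_left]; exact Scheme.Hom.le_ker_comp _ _
    have h2 : e'.left.ker ≤ e.left.ker := by
      rw [hI]
      by_contra hn
      exact hmax _ ⟨B', inferInstance, inferInstance, f', inferInstance, K', e', he', hk', rfl⟩
        (lt_of_le_not_ge h1 hn)
    exact ⟨Over.homMk (IsClosedImmersion.lift e'.left e.left h2) (by
      rw [← Over.w e', IsClosedImmersion.lift_fac_assoc, Over.w e]),
      Over.OverMorphism.ext (IsClosedImmersion.lift_fac _ _ _)⟩
  have hkill : ∀ (B' : Over (Spec (CommRingCat.of k))) [GrpObj B'] [IsProper B'.hom] (f' : G ⟶ B') [IsMonHom f'],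
      e ≫ f' = 1 := by
    intro B' _ _ f' _
    haveI : IsProper (B ⊗ B').hom := inferInstanceAs (IsProper (pullback.fst B.hom B'.hom ≫ B.hom))
    haveI : IsMonHom (lift f f') := ⟨by
        apply CartesianMonoidalCategory.hom_ext <;> simp [IsMonHom.one_hom],
      by apply CartesianMonoidalCategory.hom_ext <;> simp [IsMonHom.mul_hom]⟩
    obtain ⟨K', -, e', -, he', hk', -⟩ := exists_kernel (lift f f')
    have h0 : e' ≫ lift f f' = 1 := by rw [hk'.w, Hom.one_def]
    have h1 : e' ≫ f = 1 := by
      have := congrArg (· ≫ fst B B') h0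
      simpa [MonObj.one_comp] using this
    have h2 : e' ≫ f' = 1 := by
      have := congrArg (· ≫ snd B B') h0
      simpa [MonObj.one_comp] using this
    obtain ⟨l, hl⟩ := hle (B ⊗ B') (lift f f') K' e' he' hk'
      ⟨hek.lift e' (toUnit K') (by rw [h1, Hom.one_def]), hek.lift_fst _ _ _⟩
    rw [← hl, Category.assoc, h2, MonObj.comp_one]
  -- the image
  haveI : QuasiCompact f.left := by
    haveI : QuasiCompact (f.left ≫ B.hom) := by rw [Over.w]; infer_instance
    exact QuasiCompact.of_comp f.left B.hom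
  obtain ⟨A, hA, ιA, α, hιm, hιc, hαm, hαι, hαd, hαq, hαs⟩ := MonoFibre.AntiAffinePart.exists_schemeImage f
  letI := hA
  haveI := hιm; haveI := hιc; haveI := hαm; haveI := hαd; haveI := hαq; haveI := hαs
  haveI : IsProper A.hom := by rw [← Over.w ιA]; infer_instance
  haveI : GeometricallyIntegral A.hom := AVLib.geometricallyIntegral_of_dominant A.hom α.left (Over.w α)
  haveI : IsIntegral A.left := GeometricallyIntegral.isIntegral_of_subsingleton A.hom
  haveI : Flat A.hom := inferInstance
  haveI : LocallyOfFinitePresentation A.hom := by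
    haveI : IsLocallyNoetherian (Spec (CommRingCat.of k)) := inferInstance
    infer_instance
  haveI : Smooth A.hom := S7795.result A
  haveI : Flat α.left := MonoFibre.flat_of_surjective α
  haveI : Mono ιA := Over.mono_of_mono_left ιA
  haveI : Mono η[A] := SplitMono.mono ⟨toUnit A, toUnit_unique _ _⟩
  obtain ⟨N, hN, i, him, hic, hik, hin⟩ := exists_kernel α
  letI := hN
  haveI := him; haveI := hic
  have hiα : i ≫ α = 1 := by rw [hik.w, Hom.one_def]
  have hei : ∃ r : N ⟶ K, r ≫ e = i :=
    ⟨hek.lift i (toUnit N) (by rw [← hαι, ← Category.assoc, hiα, MonObj.one_comp, Hom.one_def]), hek.lift_fst _ _ _⟩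
  have hkillN : ∀ (B' : Over (Spec (CommRingCat.of k))) [GrpObj B'] [IsProper B'.hom] (f' : G ⟶ B') [IsMonHom f'],
      i ≫ f' = 1 := fun B' _ _ f' _ => by
    obtain ⟨r, hr⟩ := hei
    rw [← hr, Category.assoc, hkill B' f', MonObj.comp_one]
  refine ⟨N, hN, i, A, hA, α, him, hic, hin, ?_, inferInstance, inferInstance, inferInstance, hαm, hαs,
    inferInstance, hik, hkillN⟩
  -- connectedness of the kernel
  haveI : LocallyOfFiniteType N.hom := by rw [← Over.w i]; infer_instance
  haveI : QuasiCompact N.hom := by rw [← Over.w i]; infer_instance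
  haveI : IsLocallyNoetherian N.left := LocallyOfFiniteType.isLocallyNoetherian N.hom
  obtain ⟨N₀, hN₀, i₀, hi₀, hi₀o, hr₀⟩ := ObsLib.exists_identityComponent N
  letI := hN₀
  haveI := hi₀; haveI := hi₀o
  haveI : IsClosedImmersion i₀.left := IsClosedImmersion.of_isPreimmersion i₀.left
    (GrpSchLib.isClosed_range_of_isOpen i₀ i₀.left.isOpenEmbedding.isOpen_range)
  haveI hc₀ : ConnectedSpace N₀.left := connectedSpace_iff_univ.mpr (by
    refine i₀.left.isOpenEmbedding.isInducing.isPreconnected_image.mp ?_ |> fun h => ⟨⟨GrpSchLib.unitPt N₀, trivial⟩, h⟩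
    rw [Set.image_univ]
    exact hr₀ ▸ isPreconnected_connectedComponent)
  haveI : IsClosedImmersion (i₀ ≫ i).left := by rw [Over.comp_left]; infer_instance
  haveI : Mono i := Over.mono_of_mono_left i
  haveI : LocallyOfFiniteType N₀.hom := by rw [← Over.w (i₀ ≫ i)]; infer_instance
  have hn₀ : AlgGrp.IsNormalHom (i₀ ≫ i) := by
    haveI : GeometricallyConnected N₀.hom :=
      MonoFibre.geometricallyConnected_of_section N₀.hom η[N₀].left (Over.w η[N₀])
    haveI : IsIntegral G.left := GeometricallyIntegral.isIntegral_of_subsingleton G.hom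
    haveI : UniversallyOpen N₀.hom := inferInstance
    haveI : ConnectedSpace (G ⊗ N₀).left := inferInstanceAs (ConnectedSpace ↥(pullback G.hom N₀.hom))
    obtain ⟨z, hz⟩ := hin (G ⊗ N₀) (fst G N₀) (snd G N₀ ≫ i₀)
    have hsub : Set.range z.left ⊆ Set.range i₀.left := by
      have e0 : lift η[G] η[N₀] ≫ z = η[N] := by
        rw [← cancel_mono i, Category.assoc, ← hz, IsMonHom.one_hom i, MonObj.comp_mul, MonObj.comp_mul,
          GrpObj.comp_inv, lift_fst, ← Category.assoc, lift_snd_assoc, IsMonHom.one_hom i₀, IsMonHom.one_hom i,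
          mul_inv_cancel_right]
      obtain ⟨y⟩ : Nonempty ((𝟙_ (Over (Spec (CommRingCat.of k)))).left : Scheme.{u}) := ⟨IsLocalRing.closedPoint k⟩
      have h2 : η[N].left y = GrpSchLib.unitPt N := GrpSchLib.range_unit.le ⟨y, rfl⟩
      refine le_of_le_of_eq ((isPreconnected_range z.left.continuous).subset_connectedComponent
        ⟨(lift η[G] η[N₀]).left y, ?_⟩) hr₀.symm
      rw [← h2, ← e0]
      rfl
    let l : G ⊗ N₀ ⟶ N₀ := Over.homMk (IsOpenImmersion.lift i₀.left z.left hsub)
      (by rw [← Over.w i₀, IsOpenImmersion.lift_fac_assoc, Over.w z])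
    have hl : l ≫ i₀ = z := Over.OverMorphism.ext (IsOpenImmersion.lift_fac _ _ _)
    intro T g x
    refine ⟨lift g x ≫ l, ?_⟩
    rw [Category.assoc, reassoc_of% hl, ← hz, MonObj.comp_mul, MonObj.comp_mul, GrpObj.comp_inv, lift_fst,
      Category.assoc, lift_snd_assoc]
  obtain ⟨Q, hQ, q, hqm, hQs, hQl, hQq, hqs, hqf, hqp, hqk⟩ := GrpQuotLib.exists_quotientGrp_field N₀ G (i₀ ≫ i) hn₀
  letI := hQ
  haveI := hqm; haveI := hQs; haveI := hQl; haveI := hQq; haveI := hqs; haveI := hqf; haveI := hqp
  haveI : SchDesc.IsFpqc q.left := SchDesc.IsFpqc.of_locallyOfFinitePresentation _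
  have hker : ∀ (T : Over (Spec (CommRingCat.of k))) (a b : T ⟶ G), a ≫ q = b ≫ q → a ≫ α = b ≫ α := by
    intro T a b hab
    have hz : (a⁻¹ * b) ≫ q = toUnit T ≫ η[Q] := by
      rw [MonObj.mul_comp, GrpObj.inv_comp, hab, inv_mul_cancel, Hom.one_def]
    have := congrArg (· ≫ α) (hqk.lift_fst _ _ hz)
    simp only [Category.assoc, hiα, MonObj.comp_one, MonObj.mul_comp, GrpObj.inv_comp] at this
    exact inv_mul_eq_one.1 this.symm
  obtain ⟨h, hh⟩ := GrpQuotLib.exists_desc q α hker
  haveI : Epi q := GrpQuotLib.epi_of_isFpqc q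
  haveI : IsMonHom h := by
    refine ⟨by rw [← IsMonHom.one_hom q, Category.assoc, hh, IsMonHom.one_hom α], ?_⟩
    haveI : Epi (q ⊗ₘ q).left := by
      haveI : Flat (q ⊗ₘ q).left := tensorHom_left_prop @Flat q hqf
      haveI : Surjective (q ⊗ₘ q).left := tensorHom_left_prop @Surjective q hqs
      haveI : IsLocallyNoetherian (Q ⊗ Q).left := by
        haveI : LocallyOfFiniteType (Q ⊗ Q).hom := inferInstanceAs (LocallyOfFiniteType (pullback.fst Q.hom Q.hom ≫ Q.hom))
        exact LocallyOfFiniteType.isLocallyNoetherian (Q ⊗ Q).hom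
      haveI : QuasiCompact (q ⊗ₘ q).left := by
        haveI : QuasiCompact ((q ⊗ₘ q).left ≫ (Q ⊗ Q).hom) := by
          rw [Over.w]; exact inferInstanceAs (QuasiCompact (pullback.fst G.hom G.hom ≫ G.hom))
        haveI : IsSeparated (Q ⊗ Q).hom := inferInstanceAs (IsSeparated (pullback.fst Q.hom Q.hom ≫ Q.hom))
        exact QuasiCompact.of_comp (q ⊗ₘ q).left (Q ⊗ Q).hom
      infer_instance
    haveI : Epi (q ⊗ₘ q) := Over.epi_of_epi_left _
    rw [← cancel_epi (q ⊗ₘ q), ← IsMonHom.mul_hom_assoc q, hh, IsMonHom.mul_hom α, tensorHom_comp_tensorHom_assoc, hh]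
  -- the kernel of `G/N⁰ → A` is discrete
  let M := Limits.pullback h η[A]
  let m : M ⟶ Q := Limits.pullback.fst h η[A]
  obtain ⟨hM, hmm⟩ := GrpQuotLib.exists_grpObj_kernel h
  letI := hM
  haveI : IsMonHom m := hmm
  haveI : IsClosedImmersion m.left := MorphismProperty.of_isPullback
    (GrpQuotLib.isPullback_left (IsPullback.of_hasPullback h η[A])).flip (isClosedImmersion_unit A)
  haveI : LocallyOfFiniteType M.hom := by rw [← Over.w m]; infer_instance
  haveI : QuasiCompact M.hom := by rw [← Over.w m]; infer_instance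
  haveI : IsSeparated M.hom := by rw [← Over.w m]; infer_instance
  let t : N ⟶ M := Limits.pullback.lift (i ≫ q) (toUnit N) (by rw [Category.assoc, hh]; exact hik.w)
  have ht : t ≫ m = i ≫ q := Limits.pullback.lift_fst _ _ _
  have sqt : IsPullback i t q m := by
    refine IsPullback.of_bot ?_ ht.symm (IsPullback.of_hasPullback h η[A])
    rw [Limits.pullback.lift_snd, hh]
    exact hik
  have sqt' := GrpQuotLib.isPullback_left sqt
  haveI : Flat t.left := MorphismProperty.of_isPullback sqt' hqf
  haveI : LocallyOfFinitePresentation t.left := MorphismProperty.of_isPullback sqt' hqp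
  haveI : UniversallyOpen t.left := inferInstance
  haveI : Mono m := Over.mono_of_mono_left m
  have hopen : IsOpen ({GrpSchLib.unitPt M} : Set M.left) := by
    have e1 : (i₀ ≫ t).left '' Set.univ = {GrpSchLib.unitPt M} := by
      have h1 : i₀ ≫ t = toUnit N₀ ≫ η[M] := by
        rw [← cancel_mono m, Category.assoc, ht, Category.assoc, IsMonHom.one_hom m, ← Category.assoc i₀, hqk.w]
      rw [h1, Over.comp_left, Set.image_univ]
      refine Set.eq_singleton_iff_nonempty_unique_mem.2 ⟨Set.range_nonempty _, ?_⟩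
      rintro _ ⟨z, rfl⟩
      exact GrpSchLib.range_unit.le ⟨_, rfl⟩
    rw [← e1, Over.comp_left]
    haveI : UniversallyOpen (i₀.left ≫ t.left) := inferInstance
    exact (i₀.left ≫ t.left).isOpenMap _ isOpen_univ
  haveI := discreteTopology_of_isOpen_unitPt M hopen
  haveI : QuasiCompact h.left := by
    haveI : QuasiCompact (h.left ≫ A.hom) := by rw [Over.w]; infer_instance
    exact QuasiCompact.of_comp h.left A.hom
  haveI : IsFinite h.left := S7815.isFinite_of_discrete h
    (GrpQuotLib.isPullback_left (IsPullback.of_hasPullback h η[A])).isoPullback.hom.homeomorph.discreteTopology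
  haveI : IsProper Q.hom := by rw [← Over.w h]; infer_instance
  -- minimality
  obtain ⟨r, hr⟩ := hei
  obtain ⟨l, hl⟩ := hle Q q N₀ (i₀ ≫ i) inferInstance hqk ⟨i₀ ≫ r, by rw [Category.assoc, hr]⟩
  haveI : Surjective i₀.left := ⟨fun x => ⟨(r ≫ l).left x, by
    have : (r ≫ l) ≫ i₀ = 𝟙 N := by
      rw [← cancel_mono i, Category.assoc, Category.assoc, hl, hr, Category.id_comp]
    exact congrArg (fun φ : N ⟶ N => φ.left x) this⟩⟩
  exact i₀.left.surjective.connectedSpace i₀.left.continuous

end Groth.Agent.AlbQuotLib
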